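/-
No simple group has order 15840.

Main results (namespace `Cfsg.Agent.GraphM12`): `card_centralizer_eq_of_conj`,
`false_of_valBool_exact`, `card_le_fourteen_mul`, `card_ne_15840`.
-/
import Cfsg.Agent.Lib.Order95040.Basic
import Cfsg.Agent.Lib.SmallOrders.BlockDegrees.Criterion
import Cfsg.Agent.Lib.SmallOrders.BlockDegrees.ValueFormula
import Cfsg.Agent.Lib.SmallOrders.BlockDegrees.Orders2

set_option autoImplicit false

namespace Cfsg.Agent.GraphM12

open Subgroup SmallOrders SmallOrders.BlockDegrees Order95040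

variable {G : Type*} [Group G] [Finite G]

/-- elements of prime order of a Sylow subgroup of prime order have the same local data -/
theorem card_data_eq {p m : ℕ} [Fact p.Prime] (h : Nat.card G = p * m) (hm : ¬ p ∣ m) {x y : G}
    (hx : orderOf x = p) (hy : orderOf y = p) :
    Nat.card (centralizer ({x} : Set G)) = Nat.card (centralizer ({y} : Set G)) ∧
      Nat.card (nz x) = Nat.card (nz y) := by
  have hP : ∀ P : Sylow p G, Nat.card (P : Subgroup G) = p := fun P => by
    rw [card_sylow_subgroup (e := 1) (by rw [pow_one]; exact h) hm P, pow_one]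
  obtain ⟨P, hPx⟩ := exists_sylow_eq_zpowers hP hx
  obtain ⟨Q, hQy⟩ := exists_sylow_eq_zpowers hP hy
  obtain ⟨g, hg⟩ := MulAction.exists_smul_eq G P Q
  have hmap : (zpowers x).map (MulAut.conj g).toMonoidHom = zpowers y := by
    rw [← hPx, ← hQy, ← hg, Sylow.coe_subgroup_smul]
    rfl
  constructor
  · rw [← centralizer_zpowers y, ← hmap, MonoidHom.map_zpowers, centralizer_zpowers,
      ← card_map_of_injective (K := centralizer ({x} : Set G))
        (f := (MulAut.conj g).toMonoidHom) (MulAut.conj g).injective]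
    congr 2
    ext w
    rw [mem_map_equiv, mem_centralizer_singleton_iff, mem_centralizer_singleton_iff,
      ← (MulAut.conj g).injective.eq_iff, map_mul, map_mul, MulEquiv.apply_symm_apply]
    rfl
  · rw [← card_map_of_injective (K := nz x) (f := (MulAut.conj g).toMonoidHom)
        (MulAut.conj g).injective]
    unfold nz
    rw [← hmap, ← map_normalizer_eq_of_bijective]
    exact (MulAut.conj g).bijective

/-- `invBool` for a single value of `|C(t)|` -/
theorem false_of_valBool_exact {n p e c lo R C : ℕ} {pos : Bool} (hR : n < R * R)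
    (h : (degSols n p e ((p - 1) / e) lo (degCand n p lo R) (e - 1) 1 1).all (fun X =>
      valBool n p ((p - 1) / e) c pos [C] (1 + X.sum) X 1 (n : ℤ) 1) = true)
    (hn : 0 < n) {P : Multiset (ℤ × ℤ)} {y : ℤ}
    (hs : ValSol n p e ((p - 1) / e) lo c (pos = true) C P y) (hC : C ∣ n) : False := by
  obtain ⟨⟨hcard, hX, hy1, hy2, hy3, hsum, hsq⟩, hP, hw1, hw2, hvsq, k, hpk, hk, hpos, hform⟩ := hs
  simp only [List.all_eq_true] at h
  have hmem : ∀ x ∈ P.map Prod.fst, x ∈ degCand n p lo R := by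
    intro x hx
    obtain ⟨h1, h2, h3⟩ := hX x hx
    have hlt : x.natAbs < R := by
      have : x.natAbs ^ 2 ≤ ((P.map Prod.fst).map fun z => z.natAbs ^ 2).sum :=
        Multiset.le_sum_of_mem (Multiset.mem_map_of_mem (fun z : ℤ => z.natAbs ^ 2) hx)
      have h4 : x.natAbs * x.natAbs < R * R := by rw [← pow_two]; omega
      exact Nat.mul_self_lt_mul_self_iff.mp h4
    refine List.mem_flatMap.mpr ⟨x.natAbs, List.mem_range.mpr hlt, ?_⟩
    rw [if_pos ⟨h1, h2⟩, List.mem_append]
    rcases Int.natAbs_eq x with e' | e'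
    · left; rw [← e', if_pos h3]; exact List.mem_singleton.mpr rfl
    · right
      rw [show -((x.natAbs : ℕ) : ℤ) = x from e'.symm, if_pos h3]
      exact List.mem_singleton.mpr rfl
  obtain ⟨l, hl, hlX⟩ := degSols_complete _ (e - 1) 1 1 _ (by omega) hmem (by
    simp only [finalBool, Bool.and_eq_true, decide_eq_true_eq]
    rw [hsum]
    exact ⟨⟨⟨hy1, hy2⟩, hy3⟩, hsq⟩)
  obtain ⟨L, hLl, hLP⟩ := exists_aligned l P hlX.symm
  subst hLP
  have hy : 1 + l.sum = y := by rw [← hsum, ← hlX, Multiset.sum_coe]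
  have hv := h l hl
  rw [hy, ← hLl] at hv
  have hfin := valBool_sound L _ _ _ hv hP
  simp only [Multiset.map_coe, Multiset.sum_coe] at hw1 hw2 hvsq hform
  simp only [finalVal, Bool.or_eq_true, Bool.and_eq_true, decide_eq_true_eq, List.all_eq_true] at hfin
  rcases hfin with (h1 | h1) | h1
  · omega
  · exact h1 hw2
  have hC0 : 0 < C := Nat.pos_of_dvd_of_pos hC hn
  have hCC : (0 : ℤ) ≤ (C : ℤ) ^ 2 := sq_nonneg _
  have h' := h1 C (List.mem_singleton.mpr rfl)
  rw [hform] at h'
  rcases h' with (((h' | h') | h') | h') | ⟨hp', h'⟩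
  · omega
  · obtain ⟨i, rfl⟩ := hpk
    exact h' (Int.emod_eq_zero_of_dvd ⟨(i : ℤ), by push_cast; ring⟩)
  · exact absurd h' (not_lt.mpr (mul_nonneg (Int.natCast_nonneg k) hCC))
  · refine absurd h' (not_lt.mpr ?_)
    have hk' := Nat.mul_le_mul_right (C ^ 2) hk
    rw [pow_two] at hk' ⊢
    exact_mod_cast hk'
  · rcases mul_eq_zero.mp h' with e' | e'
    · have := hpos hp'
      omega
    · exact (pow_ne_zero 2 (Int.natCast_ne_zero.mpr hC0.ne')) e'

/-- A subgroup normalising `⟨u⟩` is small when `u` normalises `⟨a⟩` without centralising it. -/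
theorem card_le_fourteen_mul (h : Nat.card (Sylow 11 G) = 144) (h11 : ¬ 11 ^ 2 ∣ Nat.card G)
    {a u : G} (ha : orderOf a = 11) (hu : u ∈ nz a) (hua : u * a ≠ a * u)
    (H : Subgroup G) (hH : H ≤ nz u) :
    Nat.card H ≤ 14 * Nat.card ↥(H ⊓ nz a) := by
  classical
  have : Fact (Nat.Prime 11) := ⟨by norm_num⟩
  have hP : ∀ Q : Sylow 11 G, Nat.card (Q : Subgroup G) = 11 := fun Q => by
    obtain ⟨k, hk⟩ := Q.isPGroup'.exists_card_eq
    have h2 : 11 ∣ Nat.card (Q : Subgroup G) :=
      Q.dvd_card_of_dvd_card (ha ▸ orderOf_dvd_natCard a)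
    have h1 : Nat.card (Q : Subgroup G) ∣ Nat.card G := card_subgroup_dvd_card _
    rw [hk] at h1 h2 ⊢
    match k, h1, h2 with
    | 0, _, h2 => norm_num at h2
    | 1, _, _ => norm_num
    | k + 2, h1, _ => exact absurd ((pow_dvd_pow 11 (by omega)).trans h1) h11
  obtain ⟨P, hPa⟩ := exists_sylow_eq_zpowers hP ha
  let X := {Q : Sylow 11 G // u • Q = Q ∧ Q ≠ P}
  have haP : a • P = P := by
    rw [Sylow.smul_eq_iff_mem_normalizer]
    show a ∈ normalizer ((P : Subgroup G) : Set G)
    rw [hPa]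
    exact self_mem_nz a
  have hfree : ∀ (Q : Sylow 11 G) (i : ℕ), a ^ i • Q = Q → Q ≠ P → 11 ∣ i := by
    intro Q i hi hne
    by_contra hd
    apply hne
    have hmem : a ^ i ∈ (P : Subgroup G) ⊓ normalizer ((Q : Subgroup G) : Set G) :=
      ⟨hPa ▸ pow_mem (mem_zpowers a) i, Sylow.smul_eq_iff_mem_normalizer.mp hi⟩
    rw [show (P : Subgroup G) ⊓ normalizer ((Q : Subgroup G) : Set G) =
      (P : Subgroup G) ⊓ (Q : Subgroup G) from P.isPGroup'.inf_normalizer_sylow Q] at hmem
    have hoi : orderOf (a ^ i) = 11 := by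
      rw [orderOf_pow, ha, Nat.Coprime.gcd_eq_one ((Nat.Prime.coprime_iff_not_dvd (by norm_num)).mpr hd),
        Nat.div_one]
    refine Sylow.ext ((eq_of_le_of_card_ge (zpowers_le.mpr hmem.2) ?_).symm.trans
      (eq_of_le_of_card_ge (zpowers_le.mpr hmem.1) ?_))
    · rw [Nat.card_zpowers, hoi, hP]
    · rw [Nat.card_zpowers, hoi, hP]
  have hinv : ∀ (Q : Sylow 11 G) (i : ℕ), u • Q = Q → u • (a ^ i • Q) = a ^ i • Q →
      Q ≠ P → 11 ∣ i := by
    intro Q i hQ hi hne
    by_contra hd
    obtain ⟨k, hk⟩ := mem_powers_iff_mem_zpowers.mpr (conj_mem_zpowers hu)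
    have hk' : a ^ k = u * a * u⁻¹ := hk
    have hki : u * a ^ i = a ^ (k * i) * u := by
      rw [pow_mul, hk', conj_pow, inv_mul_cancel_right]
    have hkQ : a ^ (k * i) • Q = a ^ i • Q := by
      conv_rhs => rw [← hi, smul_smul, hki, mul_smul, hQ]
    -- the two translations differ by an element of `⟨a⟩` fixing `Q`
    have hfix : a ^ ((k + 10) * i) • Q = Q := by
      rw [add_mul, add_comm, pow_add, mul_smul, hkQ, smul_smul, ← pow_add,
        show 10 * i + i = 11 * i by ring, pow_mul, show a ^ 11 = 1 from ha ▸ pow_orderOf_eq_one a,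
        one_pow, one_smul]
    have h1 := ((Nat.Prime.dvd_mul (by norm_num)).mp (hfree Q _ hfix hne)).resolve_right hd
    apply hua
    have : a ^ k = a ^ 1 := pow_inj_mod.mpr (by rw [ha]; omega)
    rw [hk', pow_one] at this
    exact mul_inv_eq_iff_eq_mul.mp this
  -- counting the translates of fixed points
  have hcount : Nat.card X * 11 + 1 ≤ 144 := by
    have := Fintype.ofFinite (Sylow 11 G)
    let F : Option (X × Fin 11) → Sylow 11 G := fun o => o.elim P fun x => a ^ (x.2 : ℕ) • x.1.1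
    have hne : ∀ (x : X) (i : ℕ), a ^ i • x.1 ≠ P := by
      intro x i e
      apply x.2.2
      have hP' : a ^ i • P = P := by
        clear e
        induction i with
        | zero => simp
        | succ n ih => rw [pow_succ, mul_smul, haP, ih]
      exact (MulAction.injective (a ^ i)) (e.trans hP'.symm)
    have hFinj : Function.Injective F := by
      rintro (_ | ⟨x, i⟩) (_ | ⟨y, j⟩) e
      · rfl
      · exact absurd e.symm (hne y j)
      · exact absurd e (hne x i)
      · change a ^ (i : ℕ) • x.1 = a ^ (j : ℕ) • y.1 at e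
        have hyx : y.1 = a ^ ((11 - (j : ℕ)) + i) • x.1 := by
          rw [pow_add, mul_smul, e, smul_smul, ← pow_add, Nat.sub_add_cancel j.2.le,
            show a ^ 11 = 1 from ha ▸ pow_orderOf_eq_one a, one_smul]
        have hd := hinv x.1 _ x.2.1 (by rw [← hyx]; exact y.2.1) x.2.2
        have hij : (i : ℕ) = j := by omega
        obtain rfl : i = j := Fin.ext hij
        obtain rfl : x = y := Subtype.ext ((MulAction.injective (a ^ (i : ℕ))) e)
        rfl
    have := Nat.card_le_card_of_injective F hFinj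
    rw [h, Finite.card_option, Nat.card_prod, Nat.card_fin] at this
    omega
  -- the orbit of `P` under `H`
  have hstab : MulAction.stabilizer H P = (nz a).subgroupOf H := by
    ext g
    rw [MulAction.mem_stabilizer_iff, mem_subgroupOf, Subgroup.smul_def,
      Sylow.smul_eq_iff_mem_normalizer]
    show (g : G) ∈ normalizer ((P : Subgroup G) : Set G) ↔ _
    rw [hPa]
  have horb := MulAction.index_stabilizer (G := H) (x := P)
  rw [hstab] at horb
  have hmul := ((nz a).subgroupOf H).card_mul_index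
  rw [horb, ← inf_subgroupOf_left,
    Nat.card_congr (subgroupOfEquivOfLe (inf_le_left : H ⊓ nz a ≤ H)).toEquiv] at hmul
  have hsub : (MulAction.orbit H P) ⊆ {Q : Sylow 11 G | u • Q = Q} := by
    rintro _ ⟨g, rfl⟩
    show u • ((g : G) • P) = (g : G) • P
    have hg : (g : G)⁻¹ * u * (g : G) ∈ nz a := by
      have := (mem_normalizer_iff.mp (inv_mem (hH g.2)) u).mp (mem_zpowers u)
      rw [inv_inv] at this
      exact zpowers_le.mpr hu this
    rw [← inv_smul_eq_iff, smul_smul, smul_smul, Sylow.smul_eq_iff_mem_normalizer]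
    show _ ∈ normalizer ((P : Subgroup G) : Set G)
    rw [hPa]
    exact hg
  have hle : (MulAction.orbit H P).ncard ≤ 14 := by
    refine (Set.ncard_le_ncard hsub (Set.toFinite _)).trans ?_
    rw [← Nat.card_coe_set_eq]
    have : Nat.card {Q : Sylow 11 G | u • Q = Q} ≤ Nat.card (Option X) :=
      Nat.card_le_card_of_injective
        (fun Q => if e : Q.1 = P then none else some ⟨Q.1, Q.2, e⟩) (by
          intro Q Q' e
          by_cases h1 : Q.1 = P <;> by_cases h2 : Q'.1 = P <;> simp [h1, h2] at e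
          · exact Subtype.ext (h1.trans h2.symm)
          · exact Subtype.ext (show Q.1 = Q'.1 from congrArg (fun z : X => z.1) e))
    rw [Finite.card_option] at this
    omega
  rw [← hmul, Nat.mul_comm]
  exact Nat.mul_le_mul_right _ hle

/-- There are commuting elements of order 2 and 5 in the normaliser of `a`. -/
theorem exists_two_five {a : G} (ha : orderOf a = 11) (hC : Nat.card (centralizer ({a} : Set G)) = 11)
    (hN : Nat.card (nz a) = 110) :
    ∃ t w, t ∈ nz a ∧ w ∈ nz a ∧ orderOf t = 2 ∧ orderOf w = 5 ∧ w * t = t * w := by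
  have : Fact (Nat.Prime 5) := ⟨by norm_num⟩
  have : Fact (Nat.Prime 2) := ⟨Nat.prime_two⟩
  have hCa : centralizer ({a} : Set G) = zpowers a := (eq_of_le_of_card_ge
    (zpowers_le_centralizer a) (by rw [hC, Nat.card_zpowers, ha])).symm
  -- a Sylow 5-subgroup of the normaliser has a normaliser of even order
  set M := nz a
  obtain ⟨Q⟩ := (inferInstance : Nonempty (Sylow 5 M))
  have hQ : ∀ R : Sylow 5 M, Nat.card (R : Subgroup M) = 5 := fun R => by
    rw [card_sylow_subgroup (e := 1) (m := 22) (by rw [hN]; norm_num) (by norm_num) R, pow_one]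
  have hd : Nat.card (Sylow 5 M) ∣ 22 :=
    index_sylow (e := 1) (m := 22) (by rw [hN]; norm_num) (by norm_num) Q ▸ Q.card_dvd_index
  have hmod : Nat.card (Sylow 5 M) % 5 = 1 := card_sylow_modEq_one 5 M
  have hle := Nat.le_of_dvd (by norm_num) hd
  have h2 : 2 ∣ Nat.card (normalizer ((Q : Subgroup M) : Set M)) := by
    have h1 := card_normalizer_mul_card_sylow Q
    rw [hN] at h1
    have : Nat.card (Sylow 5 M) = 1 ∨ Nat.card (Sylow 5 M) = 11 := by
      interval_cases Nat.card (Sylow 5 M) <;> simp_all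
    rcases this with e | e <;> rw [e] at h1 <;> omega
  obtain ⟨t, ht⟩ := exists_prime_orderOf_dvd_card'
    (G := normalizer ((Q : Subgroup M) : Set M)) 2 h2
  obtain ⟨w, hw⟩ := exists_prime_orderOf_dvd_card' (G := (Q : Subgroup M)) 5 (by rw [hQ])
  refine ⟨((t : M) : G), ((w : M) : G), (t : M).2, (w : M).2, by rw [orderOf_coe, orderOf_coe, ht],
    by rw [orderOf_coe, orderOf_coe, hw], ?_⟩
  set T := (t : M)
  set W := (w : M)
  have hwo : orderOf W = 5 := by rw [orderOf_coe, hw]
  have hTW : T * W * T⁻¹ ∈ (Q : Subgroup M) := (mem_normalizer_iff.mp t.2 W).mp w.2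
  have hcomm : T⁻¹ * W⁻¹ * T * W ∈ (Q : Subgroup M) := by
    refine mul_mem ?_ w.2
    have := (mem_normalizer_iff.mp (inv_mem t.2) W⁻¹).mp (inv_mem w.2)
    rwa [inv_inv] at this
  -- the automorphisms of `⟨a⟩` commute
  obtain ⟨k, hk⟩ := mem_powers_iff_mem_zpowers.mpr (conj_mem_zpowers (a := a) T.2)
  obtain ⟨l, hl⟩ := mem_powers_iff_mem_zpowers.mpr (conj_mem_zpowers (a := a) W.2)
  have hk' : a ^ k = (T : G) * a * (T : G)⁻¹ := hk
  have hl' : a ^ l = (W : G) * a * (W : G)⁻¹ := hl
  have hmemC : ((T⁻¹ * W⁻¹ * T * W : M) : G) ∈ zpowers a := by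
    rw [← hCa, mem_centralizer_singleton_iff]
    simp only [coe_mul, coe_inv]
    have e1 : (T : G) * (W : G) * a * ((T : G) * (W : G))⁻¹ =
        (W : G) * (T : G) * a * ((W : G) * (T : G))⁻¹ := by
      calc (T : G) * (W : G) * a * ((T : G) * (W : G))⁻¹
          = (T : G) * ((W : G) * a * (W : G)⁻¹) * (T : G)⁻¹ := by group
        _ = a ^ (k * l) := by rw [← hl', ← conj_pow, ← hk', ← pow_mul]
        _ = (W : G) * ((T : G) * a * (T : G)⁻¹) * (W : G)⁻¹ := by
            rw [← hk', ← conj_pow, ← hl', ← pow_mul, mul_comm k l]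
        _ = _ := by group
    calc (T : G)⁻¹ * (W : G)⁻¹ * T * W * a
        = ((W : G) * T)⁻¹ * ((T : G) * W * a * ((T : G) * W)⁻¹) * ((T : G) * W) := by group
      _ = ((W : G) * T)⁻¹ * ((W : G) * T * a * ((W : G) * T)⁻¹) * ((T : G) * W) := by rw [e1]
      _ = _ := by group
  have h5 := (Q : Subgroup M).orderOf_dvd_natCard hcomm
  rw [hQ] at h5
  have h11 := orderOf_dvd_of_mem_zpowers hmemC
  rw [ha, orderOf_coe] at h11
  have h1 : T⁻¹ * W⁻¹ * T * W = 1 :=
    orderOf_eq_one_iff.mp (Nat.eq_one_of_dvd_coprimes (by norm_num : Nat.Coprime 5 11) h5 h11)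
  have h2 : W * T = T * W := by
    calc W * T = W * T * (T⁻¹ * W⁻¹ * T * W) := by rw [h1, mul_one]
      _ = T * W := by group
  exact congrArg Subtype.val h2

variable [IsSimpleGroup G]

/-- No simple group has order 15840. -/
theorem card_ne_15840 : Nat.card G ≠ 15840 := by
  intro h
  have hG : ¬ IsMulCommutative G := not_isMulCommutative_of_card (by rw [h]; norm_num)
  have : Fact (Nat.Prime 11) := ⟨by norm_num⟩
  have : Fact (Nat.Prime 5) := ⟨by norm_num⟩
  obtain ⟨a, j, hmem, ha, hN, hC⟩ :=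
    mem_of_blockBool hG h 11 126 [(144, 10)] (by decide +kernel)
  simp only [List.mem_singleton, Prod.mk.injEq] at hmem
  obtain ⟨hd, rfl⟩ := hmem
  rw [hd] at hN
  have hN' : Nat.card (nz a) = 110 := by
    show Nat.card (normalizer (zpowers a : Set G)) = 110
    omega
  have hC' : Nat.card (centralizer ({a} : Set G)) = 11 := by
    show _ = _
    omega
  obtain ⟨t, w, htN, hwN, hto, hwo, hwt⟩ := exists_two_five ha hC' hN'
  have hCa : centralizer ({a} : Set G) = zpowers a := (eq_of_le_of_card_ge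
    (zpowers_le_centralizer a) (by rw [hC', Nat.card_zpowers, ha])).symm
  have hnc : ∀ (u : G) (q : ℕ), orderOf u = q → Nat.Coprime q 11 → q ≠ 1 → u * a ≠ a * u := by
    intro u q hu hq hq1 e
    have hmem : u ∈ zpowers a := hCa ▸ mem_centralizer_singleton_iff.mpr e
    have h1 := orderOf_dvd_of_mem_zpowers hmem
    rw [hu, ha] at h1
    exact hq1 (Nat.eq_one_of_dvd_coprimes hq dvd_rfl h1)
  -- the subgroups meeting the normaliser
  have hinf : ∀ u : G, u ∈ nz a → ∀ q : ℕ, orderOf u = q → Nat.Coprime q 11 → q ≠ 1 →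
      Nat.card ↥(nz u ⊓ nz a) ∣ 10 := by
    intro u huN q hu hq hq1
    have h1 : Nat.card ↥(nz u ⊓ nz a) ∣ 110 := hN' ▸ card_dvd_of_le inf_le_right
    have h2 : ¬ 11 ∣ Nat.card ↥(nz u ⊓ nz a) := by
      intro h11
      obtain ⟨⟨g, hgu, hga⟩, hg⟩ :=
        exists_prime_orderOf_dvd_card' (G := ↥(nz u ⊓ nz a)) 11 h11
      replace hg : orderOf g = 11 :=
        (orderOf_injective (nz u ⊓ nz a).subtype (subtype_injective _) _).trans hg
      obtain ⟨P, hPa⟩ := exists_sylow_eq_zpowers (fun P : Sylow 11 (nz a) => by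
        rw [card_sylow_subgroup (e := 1) (m := 10) (by rw [hN']; norm_num) (by norm_num) P, pow_one])
        (g := (⟨a, self_mem_nz a⟩ : nz a)) (by rw [orderOf_mk, ha])
      have h1 : Nat.card (Sylow 11 (nz a)) = 1 := by
        have hd : Nat.card (Sylow 11 (nz a)) ∣ 10 := index_sylow (e := 1) (m := 10)
          (by rw [hN']; norm_num) (by norm_num) P ▸ P.card_dvd_index
        have hmod : Nat.card (Sylow 11 (nz a)) % 11 = 1 := card_sylow_modEq_one 11 _
        have := Nat.le_of_dvd (by norm_num) hd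
        omega
      obtain ⟨i, hi⟩ := mem_zpowers_iff.mp (mem_zpowers_of_unique (G := nz a) (q := 11)
        (fun P => by
          rw [card_sylow_subgroup (e := 1) (m := 10) (by rw [hN']; norm_num) (by norm_num) P, pow_one])
        h1 (x := (⟨g, hga⟩ : nz a)) (y := ⟨a, self_mem_nz a⟩) (by rw [orderOf_mk, hg])
        (by rw [orderOf_mk, ha]))
      have hau : a ∈ nz u := by
        have hi' : g ^ i = a := by simpa using congrArg Subtype.val hi
        exact hi' ▸ (nz u).zpow_mem hgu i
      -- `a` normalises `⟨u⟩` and `u` normalises `⟨a⟩`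
      have hmu : a * u * a⁻¹ * u⁻¹ ∈ zpowers u :=
        mul_mem (conj_mem_zpowers hau) (inv_mem (mem_zpowers u))
      have hma : a * u * a⁻¹ * u⁻¹ ∈ zpowers a := by
        rw [show a * u * a⁻¹ * u⁻¹ = a * (u * a * u⁻¹)⁻¹ by group]
        exact mul_mem (mem_zpowers a) (inv_mem (conj_mem_zpowers huN))
      have h1 : a * u * a⁻¹ * u⁻¹ = 1 := orderOf_eq_one_iff.mp (Nat.eq_one_of_dvd_coprimes hq
        (hu ▸ orderOf_dvd_of_mem_zpowers hmu) (ha ▸ orderOf_dvd_of_mem_zpowers hma))
      rw [mul_inv_eq_one, mul_inv_eq_iff_eq_mul] at h1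
      exact hnc u q hu hq hq1 h1.symm
    exact (Nat.Coprime.dvd_of_dvd_mul_left
      ((Nat.Prime.coprime_iff_not_dvd (by norm_num : Nat.Prime 11)).mpr h2).symm
      (show Nat.card ↥(nz u ⊓ nz a) ∣ 11 * 10 from h1))
  -- the normaliser of `⟨w⟩`
  have hw14 : Nat.card (nz w) ≤ 140 := by
    refine (card_le_fourteen_mul hd (by rw [h]; norm_num) ha hwN (hnc w 5 hwo (by norm_num) (by norm_num))
      (nz w) le_rfl).trans ?_
    have := Nat.le_of_dvd (by norm_num) (hinf w hwN 5 hwo (by norm_num) (by norm_num))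
    omega
  obtain ⟨x, i, hmem5, hx, hN5, hC5⟩ :=
    mem_of_blockBool hG h 5 126 [(66, 2), (66, 4), (176, 2), (396, 2), (396, 4)] (by decide +kernel)
  obtain ⟨hCx, hNx⟩ := card_data_eq (p := 5) (m := 3168) (by rw [h]) (by norm_num) hx hwo
  have hCw2 : 2 ∣ Nat.card (centralizer ({w} : Set G)) :=
    hto ▸ orderOf_dvd_natCard _ (mem_centralizer_singleton_iff.mpr hwt.symm)
  have hNx' : Nat.card (normalizer (zpowers x : Set G)) = Nat.card (nz w) := hNx
  simp only [List.mem_cons, Prod.mk.injEq, List.not_mem_nil, or_false] at hmem5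
  rcases hmem5 with ⟨e, rfl⟩ | ⟨e, rfl⟩ | ⟨e, rfl⟩ | ⟨e, rfl⟩ | ⟨e, rfl⟩ <;> rw [e] at hN5
  · omega
  · omega
  · omega
  · exact false_of_invBool' (c := 4) (e := 2) (lo := 10) (q := 5) (pos := false) (R := 126) hG h
      (by norm_num) hx (by norm_num) (by omega) (by omega) (Or.inr ⟨by norm_num, le_rfl⟩)
      (by decide +kernel) hto
      (hwo ▸ orderOf_dvd_natCard _ (mem_centralizer_singleton_iff.mpr hwt)) (by simp)
  -- `|C(t)| = 40`
  set M := centralizer ({t} : Set G)
  have hCw : Nat.card (centralizer ({w} : Set G)) = 10 := by omega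
  have hCwc : centralizer ({w} : Set G) = zpowers (t * w) := by
    have hcop : orderOf (t * w) = 10 := by
      rw [Commute.orderOf_mul_eq_mul_orderOf_of_coprime hwt.symm (by rw [hto, hwo]; norm_num),
        hto, hwo]
    refine (eq_of_le_of_card_ge (zpowers_le.mpr (mem_centralizer_singleton_iff.mpr ?_)) ?_).symm
    · rw [← mul_assoc, hwt, mul_assoc]
    · rw [Nat.card_zpowers, hcop, hCw]
  have hwC : nz w ≤ M := by
    intro g hg
    have hgt : g * t * g⁻¹ ∈ centralizer ({w} : Set G) :=
      conj_mem_centralizer hg (mem_centralizer_singleton_iff.mpr hwt.symm)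
    rw [hCwc] at hgt
    obtain ⟨k, hk⟩ := mem_powers_iff_mem_zpowers.mpr hgt
    have hk' : t ^ k * w ^ k = g * t * g⁻¹ := by rw [← Commute.mul_pow hwt.symm]; exact hk
    have h2 : (g * t * g⁻¹) ^ 2 = 1 := by rw [conj_pow, ← hto, pow_orderOf_eq_one]; group
    rw [← hk', Commute.mul_pow (Commute.pow_pow hwt.symm k k), ← pow_mul, ← pow_mul] at h2
    rw [show k * 2 = 2 * k by ring, pow_mul, show t ^ 2 = 1 from hto ▸ pow_orderOf_eq_one t,
      one_pow, one_mul] at h2
    have h5 := orderOf_dvd_of_pow_eq_one h2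
    rw [hwo] at h5
    have hwk : w ^ k = 1 := by
      rw [← orderOf_dvd_iff_pow_eq_one, hwo]
      omega
    rw [hwk, mul_one] at hk'
    have htk : t ^ k = t := by
      rcases Nat.even_or_odd' k with ⟨r, rfl | rfl⟩
      · exfalso
        rw [pow_mul, show t ^ 2 = 1 from hto ▸ pow_orderOf_eq_one t, one_pow] at hk'
        have : t = 1 := conj_eq_one_iff.mp hk'.symm
        rw [this, orderOf_one] at hto
        omega
      · rw [pow_add, pow_mul, show t ^ 2 = 1 from hto ▸ pow_orderOf_eq_one t, one_pow, one_mul, pow_one]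
    rw [htk] at hk'
    exact mem_centralizer_singleton_iff.mpr (mul_inv_eq_iff_eq_mul.mp hk'.symm)
  have hMN : Nat.card ↥(M ⊓ nz a) ∣ 10 := by
    refine dvd_trans (card_dvd_of_le (inf_le_inf_right _ ?_)) (hinf t htN 2 hto (by norm_num) (by norm_num))
    show centralizer ({t} : Set G) ≤ _
    rw [← centralizer_zpowers t]
    exact centralizer_le_normalizer _
  have hM14 : Nat.card M ≤ 140 := by
    refine (card_le_fourteen_mul hd (by rw [h]; norm_num) ha htN (hnc t 2 hto (by norm_num) (by norm_num))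
      M (by show centralizer ({t} : Set G) ≤ _
            rw [← centralizer_zpowers t]; exact centralizer_le_normalizer _)).trans ?_
    have := Nat.le_of_dvd (by norm_num) hMN
    omega
  have hM40 : Nat.card M = 40 := by
    obtain ⟨m, hm, hm5, -⟩ := card_inf_normalizer_mul (p := 5) hwo (by rw [h]; norm_num) M
      (mem_centralizer_singleton_iff.mpr hwt)
    rw [inf_eq_right.mpr hwC] at hm
    change Nat.card (nz w) * m = Nat.card M at hm
    rw [show Nat.card (nz w) = 40 by omega] at hm
    omega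
  obtain ⟨P, y, hs⟩ := exists_valSol hG (c := 2) (e := 4) (lo := 10) (p := 5) (by norm_num) hx
    (by rw [h]; norm_num) (by omega) (by omega) (Or.inr ⟨by norm_num, le_rfl⟩) hto
  rw [h, show Nat.card (centralizer ({t} : Set G)) = 40 from hM40] at hs
  obtain ⟨h1, h2, h3, h4, h5', k, hk1, hk2, -, hk4⟩ := hs
  exact false_of_valBool_exact (pos := false) (R := 126) (by norm_num) (by decide +kernel) (by norm_num)
    (⟨h1, h2, h3, h4, h5', k, hk1, hk2, fun hp => absurd hp (by simp), hk4⟩ :
      ValSol 15840 5 4 ((5 - 1) / 4) 10 2 (false = true) 40 P y) (by norm_num)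

end Cfsg.Agent.GraphM12
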