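/-
The orders of the simple groups with order divisible by 11 and dividing 95040.

Main results (namespace `Cfsg.Agent.GraphM12`): `card_ne_11880`, `card_ne_47520`,
`card_cases`.
-/
import Cfsg.Agent.Lib.GraphM12.Fifteen
import Cfsg.Agent.Lib.Order95040.Case144
import Cfsg.Agent.Lib.SmallDegreeGraph.Tools

set_option autoImplicit false

namespace Cfsg.Agent.GraphM12

open Subgroup SmallOrders SmallOrders.BlockDegrees Order95040

variable {G : Type*} [Group G] [Finite G] [IsSimpleGroup G]

/-- No simple group has order 11880. -/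
theorem card_ne_11880 : Nat.card G ≠ 11880 := by
  intro h
  have hG : ¬ IsMulCommutative G := not_isMulCommutative_of_card (by rw [h]; norm_num)
  have : Fact (Nat.Prime 11) := ⟨by norm_num⟩
  obtain ⟨a, j, hmem, ha, hN, hC⟩ :=
    mem_of_blockBool hG h 11 109 [(540, 2)] (by decide +kernel)
  simp only [List.mem_singleton, Prod.mk.injEq] at hmem
  obtain ⟨hd, rfl⟩ := hmem
  rw [hd] at hN
  obtain ⟨t, ht, hta⟩ := exists_inverting (p := 11) (c := 1) (e := 2) ha (by norm_num) (by norm_num)
    (by omega) (by omega)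
  exact false_of_invBool' (c := 1) (e := 2) (lo := 2) (q := 1) (pos := true) (R := 109) hG h
    (by norm_num) ha (by norm_num) (by omega) (by omega) (Or.inl le_rfl) (by decide +kernel) ht
    (one_dvd _) fun _ => ⟨t, IsConj.refl t, hta⟩

/-- No simple group has order 47520. -/
theorem card_ne_47520 : Nat.card G ≠ 47520 := by
  intro h
  have hG : ¬ IsMulCommutative G := not_isMulCommutative_of_card (by rw [h]; norm_num)
  have : Fact (Nat.Prime 11) := ⟨by norm_num⟩
  have : Fact (Nat.Prime 3) := ⟨Nat.prime_three⟩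
  obtain ⟨a, j, hmem, ha, hN, hC⟩ :=
    mem_of_blockBool hG h 11 218 [(144, 5), (144, 10)] (by decide +kernel)
  simp only [List.mem_cons, Prod.mk.injEq, List.not_mem_nil, or_false] at hmem
  have hd : Nat.card (Sylow 11 G) = 144 := by rcases hmem with e | e <;> exact e.1
  rw [hd] at hN
  have hN' : Nat.card (nz a) = 330 := by
    show Nat.card (normalizer (zpowers a : Set G)) = 330
    omega
  set C := centralizer ({a} : Set G)
  have hle : C ≤ nz a := by
    show centralizer ({a} : Set G) ≤ _
    rw [← centralizer_zpowers a]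
    exact centralizer_le_normalizer _
  obtain ⟨m, hCm, hm3, hm⟩ : ∃ m, Nat.card C = 3 * (11 * m) ∧ ¬ 3 ∣ 11 * m ∧ (m = 1 ∨ m = 2) := by
    rcases hmem with ⟨-, rfl⟩ | ⟨-, rfl⟩
    · exact ⟨2, by omega, by norm_num, Or.inr rfl⟩
    · exact ⟨1, by omega, by norm_num, Or.inl rfl⟩
  have hnd : ¬ Nat.card C ∣ 11 := by
    rcases hm with rfl | rfl <;> rw [hCm] <;> norm_num
  have h1 : Nat.card (Sylow 3 C) = 1 := by
    have hd : Nat.card (Sylow 3 C) ∣ m := card_sylow_centralizer ha (q := 3) hCm hm3 (by norm_num)
    have hmod : Nat.card (Sylow 3 C) % 3 = 1 := card_sylow_modEq_one 3 _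
    have := Nat.le_of_dvd (by omega) hd
    omega
  obtain ⟨⟨z, hza⟩, hz⟩ := exists_prime_orderOf_dvd_card' 3
    (show 3 ∣ Nat.card C from hCm ▸ dvd_mul_right 3 _)
  rw [orderOf_mk] at hz
  have hNz : nz a ≤ nz z := fun g hg => mem_nz (mem_zpowers_of_centralizer hCm hm3 h1 hza
    (conj_mem_centralizer hg hza) hz (by rw [orderOf_conj, hz]))
  obtain ⟨r, hr, hr11, -⟩ := card_inf_normalizer_mul (p := 11) ha (by rw [h]; norm_num) (nz z)
    (hNz (self_mem_nz a))
  rw [show Nat.card ↥(nz z ⊓ normalizer ((zpowers a : Subgroup G) : Set G)) = 330 by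
    rw [← hN']; exact congrArg (fun K : Subgroup G => Nat.card K) (inf_eq_right.mpr hNz)] at hr
  have hr144 : r ∣ 144 := Nat.dvd_of_mul_dvd_mul_left (show 0 < 330 by norm_num)
    ((dvd_of_eq hr).trans (by
      rw [show 330 * 144 = Nat.card G by rw [h]]; exact card_subgroup_dvd_card _))
  have hcases : ∀ d < 145, d ∣ 144 → d % 11 = 1 → d = 1 ∨ 12 ≤ d := by decide +kernel
  rcases hcases r (Nat.lt_succ_of_le (Nat.le_of_dvd (by norm_num) hr144)) hr144 hr11 with rfl | h12
  · have h9 := nine_dvd_centralizer (m := 1760) (by rw [h]; norm_num) (by norm_num) hz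
    have hCle : centralizer ({z} : Set G) ≤ nz z := by
      rw [← centralizer_zpowers z]; exact centralizer_le_normalizer _
    have := h9.trans (card_dvd_of_le hCle)
    omega
  have hne : nz z ≠ ⊤ := by
    intro htop
    rcases (normalizer_eq_top_iff.mp htop : (zpowers z).Normal).eq_bot_or_eq_top with hb | ht
    · rw [zpowers_eq_bot] at hb
      rw [hb, orderOf_one] at hz
      omega
    · have := congrArg (fun K : Subgroup G => Nat.card K) ht
      simp only [Nat.card_zpowers, hz, card_top, h] at this
      omega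
  refine hnd (card_centralizer_dvd_eleven hne ?_ ha)
  have h1 := (nz z).card_mul_index
  rw [h, ← hr] at h1
  by_contra hlt
  have : 330 * r * 13 ≤ 330 * r * (nz z).index := Nat.mul_le_mul le_rfl (by omega)
  omega

/-- The orders of the simple groups with order divisible by 11 and dividing 95040. -/
theorem card_cases (hG : ¬ IsMulCommutative G) (h11 : 11 ∣ Nat.card G) (hd : Nat.card G ∣ 95040) :
    Nat.card G = 660 ∨ Nat.card G = 7920 ∨ Nat.card G = 95040 := by
  by_cases hlt : Nat.card G < 6000
  · have h := SmallDegreeGraph.mem_orderList hG hlt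
    simp only [SmallDegreeGraph.orderList, List.mem_cons, List.not_mem_nil, or_false] at h
    omega
  obtain ⟨d, hdc⟩ := h11
  have hd' : d ∣ 8640 := Nat.dvd_of_mul_dvd_mul_left (show 0 < 11 by norm_num) (hdc ▸ hd)
  have hl : ∀ u < 94, ∀ r < 94, 8640 % (94 * u + r) ≠ 0 ∨ 94 * u + r < 546 ∨
      94 * u + r ∈ [576, 720, 864, 960, 1080, 1440, 1728, 2160, 2880, 4320, 8640] := by
    decide +kernel
  have h8 := Nat.le_of_dvd (by norm_num) hd'
  have := hl (d / 94) (by omega) (d % 94) (by omega)
  rw [Nat.div_add_mod] at this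
  have hmod := Nat.mod_eq_zero_of_dvd hd'
  simp only [List.mem_cons, List.not_mem_nil, or_false] at this
  rcases this with h | h | rfl | rfl | rfl | rfl | rfl | rfl | rfl | rfl | rfl | rfl | rfl
  · omega
  · omega
  · exact absurd hdc (card_ne_of_blockBool hG 11 80 (by decide +kernel))
  · omega
  · exact absurd hdc (card_ne_of_blockBool hG 11 98 (by decide +kernel))
  · exact absurd hdc (card_ne_of_blockBool hG 11 103 (by decide +kernel))
  · exact absurd hdc card_ne_11880
  · exact absurd hdc card_ne_15840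
  · exact absurd hdc (card_ne_of_blockBool hG 11 138 (by decide +kernel))
  · exact absurd hdc (card_ne_of_blockBool hG 11 155 (by decide +kernel))
  · exact absurd hdc (card_ne_of_blockBool hG 11 178 (by decide +kernel))
  · exact absurd hdc card_ne_47520
  · omega

end Cfsg.Agent.GraphM12
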