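/-
The chief factor with order divisible by 11 of a group of order 95040.

Main results (namespace `Cfsg.Agent.GraphM12`): `exists_max_coprime_normal`,
`isSimpleGroup_of_minimal`, `commute_of_normal`, `exists_socle`.
-/
import Cfsg.Agent.Lib.Order95040.Tools
import Cfsg.Agent.Lib.SmallDegreeGraph.Tools

set_option autoImplicit false
set_option linter.style.haveILetI false

namespace Cfsg.Agent.GraphM12

open Subgroup SmallOrders Cfsg

variable {G : Type*} [Group G] [Finite G]

/-- a normal subgroup containing all normal subgroups of order prime to `p` -/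
theorem exists_max_coprime_normal (H : Type*) [Group H] [Finite H] (p : ℕ) [Fact p.Prime] :
    ∃ (S : Subgroup H) (_ : S.Normal), ¬ p ∣ Nat.card S ∧
      ∀ N : Subgroup H, N.Normal → ¬ p ∣ Nat.card N → N ≤ S := by
  have hne : ({N : Subgroup H | N.Normal ∧ ¬ p ∣ Nat.card N}).Nonempty :=
    ⟨⊥, inferInstance, by rw [card_bot]; exact Fact.out (p := p.Prime) |>.not_dvd_one⟩
  obtain ⟨S, ⟨hSn, hSp⟩, hmax⟩ := (Set.toFinite _).exists_maximal hne
  refine ⟨S, hSn, hSp, fun N hN hNp => le_trans le_sup_left (hmax ?_ le_sup_right)⟩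
  haveI := hSn
  haveI := hN
  refine ⟨inferInstance, fun hd => ?_⟩
  have h1 := relIndex_mul_relIndex (⊥ : Subgroup H) S (N ⊔ S) bot_le le_sup_right
  rw [relIndex_bot_left, relIndex_bot_left, relIndex_sup_right] at h1
  rcases (Nat.Prime.dvd_mul Fact.out).mp (h1 ▸ hd) with h | h
  · exact hSp h
  · exact hNp (h.trans (relIndex_dvd_card _ _))

/-- A minimal normal subgroup is simple when a prime divides the group order exactly once and
no normal subgroup has order prime to it. -/
theorem isSimpleGroup_of_minimal {H : Type*} [Group H] [Finite H] {p : ℕ} [Fact p.Prime]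
    (hp2 : ¬ p ^ 2 ∣ Nat.card H) (hrad : ∀ N : Subgroup H, N.Normal → ¬ p ∣ Nat.card N → N = ⊥)
    {M : Subgroup H} (hM : M.Normal) (hne : M ≠ ⊥)
    (hmin : ∀ N : Subgroup H, N.Normal → N ≤ M → N ≠ ⊥ → N = M) :
    p ∣ Nat.card M ∧ IsSimpleGroup M := by
  haveI := hM
  have hp : p.Prime := Fact.out
  have hpM : p ∣ Nat.card M := by_contra fun h => hne (hrad M hM h)
  refine ⟨hpM, ?_⟩
  haveI : Nontrivial M := (nontrivial_iff_ne_bot M).mpr hne
  -- characteristic subgroups are trivial or everything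
  have hchar : ∀ L : Subgroup M, L.Characteristic → L ≠ ⊥ → L = ⊤ := by
    intro L hL hLne
    have h1 := hmin (L.map M.subtype) inferInstance (map_subtype_le _) fun e => hLne (by
      rwa [map_eq_bot_iff_of_injective _ (subtype_injective M)] at e)
    apply map_injective (subtype_injective M)
    rw [h1, ← MonoidHom.range_eq_map, range_subtype]
  -- the subgroup generated by the elements of order `p`
  set L : Subgroup M := closure {x : M | orderOf x = p} with hLdef
  have hLc : L.Characteristic := characteristic_iff_map_eq.mpr fun φ => by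
    rw [hLdef, MonoidHom.map_closure]
    congr 1
    ext x
    constructor
    · rintro ⟨y, hy, rfl⟩
      exact (orderOf_injective φ.toMonoidHom φ.injective y).trans hy
    · intro hx
      refine ⟨φ.symm x, ?_, φ.apply_symm_apply x⟩
      exact (orderOf_injective φ.symm.toMonoidHom φ.symm.injective x).trans hx
  have hLtop : L = ⊤ := hchar L hLc fun e => by
    obtain ⟨x, hx⟩ := exists_prime_orderOf_dvd_card' (G := M) p hpM
    have : x ∈ L := subset_closure hx
    rw [e, mem_bot] at this
    rw [this, orderOf_one] at hx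
    exact hp.one_lt.ne hx
  obtain ⟨S, hSn, hSp, hSmax⟩ := exists_max_coprime_normal M p
  have hSc : S.Characteristic := characteristic_iff_map_le.mpr fun φ => hSmax _
    (hSn.map _ φ.surjective) (by rwa [card_map_of_injective φ.injective])
  have hS : S = ⊥ := by_contra fun hSne => hSp (by rw [hchar S hSc hSne, card_top]; exact hpM)
  refine ⟨fun N hN => or_iff_not_imp_left.mpr fun hNne => eq_top_iff.mpr (hLtop ▸ ?_)⟩
  haveI := hN
  have hpN : p ∣ Nat.card N := by
    by_contra h
    exact hNne (le_bot_iff.mp (hS ▸ hSmax N hN h))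
  rw [hLdef, closure_le]
  intro x hx
  show x ∈ N
  rw [← QuotientGroup.eq_one_iff]
  refine orderOf_eq_one_iff.mp ?_
  have h1 : orderOf (x : M ⧸ N) ∣ p :=
    (orderOf_map_dvd (QuotientGroup.mk' N) x).trans (dvd_of_eq hx)
  rcases (Nat.dvd_prime hp).mp h1 with h | h
  · exact h
  · exfalso
    apply hp2
    have h2 : p ∣ N.index := h ▸ N.index_eq_card ▸ orderOf_dvd_natCard _
    rw [pow_two]
    exact (Nat.mul_dvd_mul hpN h2).trans (by rw [N.card_mul_index]; exact card_subgroup_dvd_card M)

variable [Fact (Nat.Prime 11)]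

/-- An element of order 11 centralises every normal subgroup of order dividing `8640`. -/
theorem commute_of_normal {a : G} (ha : orderOf a = 11) (H : Subgroup G) [H.Normal]
    (hd : Nat.card H ∣ 8640) {x : G} (hx : x ∈ H) : a * x = x * a := by
  classical
  set D : Subgroup H := (centralizer ({a} : Set G)).subgroupOf H
  suffices hD : D.index = 1 by
    have h : (⟨x, hx⟩ : H) ∈ D := (index_eq_one.mp hD) ▸ mem_top _
    exact (mem_centralizer_singleton_iff.mp h).symm
  by_contra hne
  obtain ⟨q, hq, hqD⟩ := Nat.exists_prime_and_dvd hne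
  haveI := Fact.mk hq
  -- a Sylow subgroup fixed by `a`
  let A : Subgroup G := zpowers a
  let act : MulAction A (Sylow q H) :=
    MulAction.compHom (Sylow q H) ((MulAut.conjNormal (H := H)).comp A.subtype)
  have hA : IsPGroup 11 A := IsPGroup.of_card (n := 1) (by rw [Nat.card_zpowers, ha, pow_one])
  have h11 : ¬ 11 ∣ Nat.card (Sylow q H) := fun h => by
    obtain ⟨P⟩ := (inferInstance : Nonempty (Sylow q H))
    have := h.trans (P.card_dvd_index.trans ((index_dvd_card _).trans hd))
    norm_num at this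
  obtain ⟨Q, hQ⟩ := hA.nonempty_fixed_point_of_prime_not_dvd_card (Sylow q H) h11
  have hfix0 := hQ ⟨a, mem_zpowers a⟩
  have hfix : MulAut.conjNormal (H := H) a • Q = Q := hfix0
  set T : Subgroup G := (Q : Subgroup H).map H.subtype
  have hinv : ∀ g ∈ (T : Set G), a * g * a⁻¹ ∈ (T : Set G) := by
    rintro _ ⟨⟨g, hg⟩, hgQ, rfl⟩
    have hmem : MulAut.conjNormal (H := H) a ⟨g, hg⟩ ∈ (Q : Subgroup H) := by
      have h := Subgroup.smul_mem_pointwise_smul _ (MulAut.conjNormal (H := H) a) (Q : Subgroup H) hgQ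
      rw [← Sylow.pointwise_smul_def, hfix] at h
      exact h
    exact ⟨MulAut.conjNormal a ⟨g, hg⟩, hmem, MulAut.conjNormal_apply a ⟨g, hg⟩⟩
  have hmod := Order95040.card_modEq_commute ha (T : Set G) hinv
  have hTC : Nat.card {g : G // g ∈ (T : Set G) ∧ a * g = g * a} =
      Nat.card ↥(T ⊓ centralizer ({a} : Set G)) := Nat.card_congr
    { toFun := fun g => ⟨g.1, g.2.1, mem_centralizer_singleton_iff.mpr g.2.2.symm⟩
      invFun := fun g => ⟨g.1, g.2.1, (mem_centralizer_singleton_iff.mp g.2.2).symm⟩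
      left_inv := fun g => rfl
      right_inv := fun g => rfl }
  rw [hTC] at hmod
  obtain ⟨k, hk⟩ := Q.isPGroup'.exists_card_eq
  have hTk : Nat.card T = q ^ k := by
    rw [card_map_of_injective (subtype_injective H), hk]
  have hTk' : Nat.card (T : Set G) = q ^ k := hTk
  rw [hTk'] at hmod
  obtain ⟨i, hik, hi⟩ := (Nat.dvd_prime_pow hq).mp (hTk ▸ card_dvd_of_le
    (inf_le_left : T ⊓ centralizer ({a} : Set G) ≤ T))
  rw [hi] at hmod
  have hqk : q ^ k ∣ 8640 := hk ▸ (card_subgroup_dvd_card _).trans hd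
  have hq235 : q = 2 ∨ q = 3 ∨ q = 5 := by
    have h1 : q ∣ 2 ^ 6 * (3 ^ 3 * 5) := hqD.trans ((index_dvd_card _).trans hd)
    rcases hq.dvd_mul.mp h1 with h | h
    · exact Or.inl ((Nat.prime_dvd_prime_iff_eq hq Nat.prime_two).mp (hq.dvd_of_dvd_pow h))
    rcases hq.dvd_mul.mp h with h | h
    · exact Or.inr (Or.inl ((Nat.prime_dvd_prime_iff_eq hq Nat.prime_three).mp (hq.dvd_of_dvd_pow h)))
    · exact Or.inr (Or.inr ((Nat.prime_dvd_prime_iff_eq hq (by norm_num)).mp h))
  have hkey : i = k := by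
    have hk14 : k < 14 := by
      by_contra hk'
      have h1 : 2 ^ 14 ≤ q ^ k :=
        (Nat.pow_le_pow_right (by norm_num) (by omega : 14 ≤ k)).trans (Nat.pow_le_pow_left hq.two_le k)
      have := Nat.le_of_dvd (by norm_num) hqk
      omega
    have hall : ∀ r ∈ [2, 3, 5], ∀ k < 14, ∀ i < k,
        8640 % r ^ k ≠ 0 ∨ r ^ k % 11 ≠ r ^ i % 11 := by decide +kernel
    by_contra hne
    rcases hall q (by simp [hq235]) k hk14 i (by omega) with h | h
    · exact h (Nat.mod_eq_zero_of_dvd hqk)
    · exact h hmod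
  have hTle : T ≤ centralizer ({a} : Set G) :=
    inf_eq_left.mp (eq_of_le_of_card_ge inf_le_left (by rw [hi, hTk, hkey]))
  exact Q.not_dvd_index (hqD.trans (index_dvd_of_le (fun g hg => hTle ⟨g, hg, rfl⟩)))

/-- The chief factor above the largest normal subgroup of order prime to 11. -/
theorem exists_socle (h : Nat.card G = 95040) (hv : 11 ∈ degreePrimes G) :
    ∃ (R : Subgroup G) (_ : R.Normal) (M : Subgroup (G ⧸ R)) (_ : M.Normal),
      ¬ 11 ∣ Nat.card R ∧ IsSimpleGroup M ∧ ¬ IsMulCommutative M ∧ 11 ∣ Nat.card M ∧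
        centralizer (M : Set (G ⧸ R)) = ⊥ ∧
        M ≤ (centralizer (R : Set G)).map (QuotientGroup.mk' R) := by
  obtain ⟨R, hR, hRp, hmax⟩ := exists_max_coprime_normal G 11
  haveI := hR
  have hRd : Nat.card R ∣ 8640 :=
    ((Nat.Prime.coprime_iff_not_dvd Fact.out).mpr hRp).symm.dvd_of_dvd_mul_left
      (show Nat.card R ∣ 11 * 8640 by
        rw [show 11 * 8640 = Nat.card G by rw [h]]; exact card_subgroup_dvd_card R)
  have hsq : ¬ 11 ^ 2 ∣ Nat.card G := by rw [h]; norm_num
  have hQsq : ¬ 11 ^ 2 ∣ Nat.card (G ⧸ R) := fun hd => hsq (hd.trans (card_quotient_dvd_card R))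
  have hrad : ∀ N : Subgroup (G ⧸ R), N.Normal → ¬ 11 ∣ Nat.card N → N = ⊥ := by
    intro N hN hNp
    haveI := hN
    have hle := hmax (N.comap (QuotientGroup.mk' R)) inferInstance fun hd => by
      have h1 := (N.comap (QuotientGroup.mk' R)).card_mul_index
      have h2 := N.card_mul_index
      rw [index_comap_of_surjective _ (QuotientGroup.mk'_surjective R), ← R.card_mul_index,
        index_eq_card R, ← h2, ← mul_assoc] at h1
      rw [Nat.eq_of_mul_eq_mul_right (Nat.pos_of_ne_zero index_ne_zero_of_finite) h1] at hd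
      exact ((Nat.Prime.dvd_mul Fact.out).mp hd).elim hRp hNp
    rw [← map_comap_eq_self_of_surjective (QuotientGroup.mk'_surjective R) N, eq_bot_iff]
    refine (map_mono hle).trans ?_
    rw [QuotientGroup.map_mk'_self]
  haveI : Nontrivial (G ⧸ R) := by
    rw [← Finite.one_lt_card_iff_nontrivial, ← index_eq_card]
    refine one_lt_index_of_ne_top fun e => hRp ?_
    rw [e, card_top, h]
    norm_num
  obtain ⟨M, ⟨hMn, hMne⟩, hmin⟩ := (Set.toFinite {N : Subgroup (G ⧸ R) | N.Normal ∧ N ≠ ⊥}).exists_minimal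
    ⟨⊤, inferInstance, top_ne_bot⟩
  obtain ⟨h11M, hMs⟩ := isSimpleGroup_of_minimal hQsq hrad hMn hMne fun N hN hle hne =>
    le_antisymm hle (hmin ⟨hN, hne⟩ hle)
  haveI := hMn
  haveI := hMs
  -- elements of order 11 of `M` come from elements of order 11
  have hlift : ∀ m ∈ M, orderOf m = 11 → m ∈ (centralizer (R : Set G)).map (QuotientGroup.mk' R) := by
    intro m _ hm
    obtain ⟨g, rfl⟩ := QuotientGroup.mk'_surjective R m
    obtain ⟨n, hn⟩ : 11 ∣ orderOf g := hm ▸ orderOf_map_dvd (QuotientGroup.mk' R) g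
    have hn11 : ¬ 11 ∣ n := fun hd => hsq ((by
      rw [hn, pow_two]; exact Nat.mul_dvd_mul_left 11 hd : 11 ^ 2 ∣ orderOf g).trans
        (orderOf_dvd_natCard g))
    have hn0 : n ≠ 0 := by rintro rfl; exact hn11 (dvd_zero _)
    have hg : orderOf (g ^ n) = 11 := by
      rw [orderOf_pow' g hn0, hn, Nat.gcd_eq_right (dvd_mul_left n 11),
        Nat.mul_div_cancel _ (by omega)]
    have hmem : g ^ n ∈ centralizer (R : Set G) :=
      mem_centralizer_iff.mpr fun r hr => (commute_of_normal hg R hRd hr).symm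
    have hco : (orderOf (QuotientGroup.mk' R g)).Coprime n := by
      rw [hm]; exact (Nat.Prime.coprime_iff_not_dvd Fact.out).mpr hn11
    obtain ⟨k, hk⟩ := exists_pow_eq_self_of_coprime hco.symm
    refine ⟨(g ^ n) ^ k, pow_mem hmem k, ?_⟩
    rw [map_pow, map_pow, hk]
  have hMle : M ≤ (centralizer (R : Set G)).map (QuotientGroup.mk' R) := by
    obtain ⟨m, hm⟩ := exists_prime_orderOf_dvd_card' (G := M) 11 h11M
    set L := (centralizer (R : Set G)).map (QuotientGroup.mk' R)
    haveI : L.Normal := (inferInstance : (centralizer (R : Set G)).Normal).map _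
      (QuotientGroup.mk'_surjective R)
    rcases (inferInstance : (L.subgroupOf M).Normal).eq_bot_or_eq_top with hb | ht
    · exfalso
      have : m ∈ L.subgroupOf M := hlift (m : G ⧸ R) m.2 (by rw [orderOf_coe, hm])
      rw [hb, mem_bot] at this
      rw [this, orderOf_one] at hm
      omega
    · exact subgroupOf_eq_top.mp ht
  -- `M` is not of order 11
  have hMc : ¬ IsMulCommutative M := by
    intro hc
    letI : CommGroup M := { (inferInstance : Group M) with mul_comm := hc.is_comm.comm }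
    have hM11 : Nat.card M = 11 :=
      ((Nat.prime_dvd_prime_iff_eq Fact.out IsSimpleGroup.prime_card).mp h11M).symm
    obtain ⟨P⟩ := (inferInstance : Nonempty (Sylow 11 G))
    have hPc : ∀ P : Sylow 11 G, Nat.card (P : Subgroup G) = 11 := fun P => by
      rw [card_sylow_subgroup (e := 1) (m := 8640) (by rw [h]; norm_num) (by norm_num) P, pow_one]
    obtain ⟨⟨a, haP⟩, ha⟩ := exists_prime_orderOf_dvd_card' (G := (P : Subgroup G)) 11 (by rw [hPc])
    rw [orderOf_mk] at ha
    refine SmallDegreeGraph.not_mem_of_prime_order P ⟨fun y hy g => ?_⟩ (hPc P) hv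
    have hPa : zpowers a = (P : Subgroup G) :=
      eq_of_le_of_card_ge (zpowers_le.mpr haP) (by rw [hPc, Nat.card_zpowers, ha])
    have hidx : ¬ 11 ∣ M.index := fun hd => hQsq (by
      rw [← M.card_mul_index, hM11, pow_two]; exact Nat.mul_dvd_mul_left 11 hd)
    have hin : ∀ b : G, orderOf b = 11 → (QuotientGroup.mk' R b) ∈ M := by
      intro b hb
      rw [← QuotientGroup.eq_one_iff]
      refine orderOf_eq_one_iff.mp (Nat.eq_one_of_dvd_coprimes
        ((Nat.Prime.coprime_iff_not_dvd Fact.out).mpr hidx) ?_ ?_)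
      · exact (orderOf_map_dvd (QuotientGroup.mk' M) _).trans
          ((orderOf_map_dvd (QuotientGroup.mk' R) b).trans (dvd_of_eq hb))
      · rw [index_eq_card]; exact orderOf_dvd_natCard _
    have hma : orderOf (QuotientGroup.mk' R a) = 11 := by
      rcases (Nat.dvd_prime Fact.out).mp ((orderOf_map_dvd (QuotientGroup.mk' R) a).trans
        (dvd_of_eq ha)) with e | e
      · exfalso
        have : a ∈ R := (QuotientGroup.eq_one_iff a).mp (orderOf_eq_one_iff.mp e)
        exact hRp (ha ▸ orderOf_dvd_natCard _ this)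
      · exact e
    have hMa : zpowers (QuotientGroup.mk' R a) = M :=
      eq_of_le_of_card_ge (zpowers_le.mpr (hin a ha)) (by rw [hM11, Nat.card_zpowers, hma])
    rw [← hPa] at hy ⊢
    obtain ⟨j, rfl⟩ := mem_zpowers_iff.mp hy
    rw [← conj_zpow]
    refine zpow_mem ?_ j
    obtain ⟨i, hi⟩ := mem_zpowers_iff.mp
      (hMa.symm ▸ hin (g * a * g⁻¹) ((orderOf_injective (MulAut.conj g).toMonoidHom
        (MulAut.conj g).injective a).trans ha) : QuotientGroup.mk' R (g * a * g⁻¹) ∈ zpowers _)
    rw [← map_zpow] at hi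
    have hr : (a ^ i)⁻¹ * (g * a * g⁻¹) ∈ R := QuotientGroup.eq.mp hi
    set r := (a ^ i)⁻¹ * (g * a * g⁻¹)
    have hb : g * a * g⁻¹ = a ^ i * r := (mul_inv_cancel_left _ _).symm
    have h1 : (g * a * g⁻¹) ^ 11 = 1 := by
      rw [conj_pow, ← ha, pow_orderOf_eq_one, mul_one, mul_inv_cancel]
    have hcom : Commute (a ^ i) r := (Commute.zpow_left (commute_of_normal ha R hRd hr) i)
    rw [hb, hcom.mul_pow, ← zpow_natCast (a ^ i), ← zpow_mul, mul_comm i, zpow_mul, zpow_natCast,
      show a ^ 11 = 1 from ha ▸ pow_orderOf_eq_one a, one_zpow, one_mul] at h1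
    have hr1 : r = 1 := by
      rcases (Nat.dvd_prime Fact.out).mp (orderOf_dvd_of_pow_eq_one h1) with e | e
      · exact orderOf_eq_one_iff.mp e
      · exact absurd (e ▸ orderOf_dvd_natCard _ hr) hRp
    rw [hb, hr1, mul_one]
    exact zpow_mem (mem_zpowers a) i
  refine ⟨R, hR, M, hMn, hRp, hMs, hMc, h11M, ?_, hMle⟩
  set K := centralizer (M : Set (G ⧸ R))
  by_contra hK
  have hK11 : 11 ∣ Nat.card K := by_contra fun hd => hK (hrad K inferInstance hd)
  have hdisj : M ⊓ K = ⊥ := by
    refine eq_bot_iff.mpr fun x hx => ?_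
    have hxc : (⟨x, hx.1⟩ : M) ∈ center M := mem_center_iff.mpr fun y =>
      Subtype.ext (mem_centralizer_iff.mp hx.2 y y.2)
    rw [center_eq_bot hMc, mem_bot] at hxc
    exact congrArg Subtype.val hxc
  have hcard := SmallDegreeGraph.card_sup_of_disjoint
    (A := M) (B := K) (by rw [normalizer_eq_top_iff.mpr hMn]; exact le_top) hdisj
  apply hQsq
  rw [pow_two]
  exact (Nat.mul_dvd_mul h11M hK11).trans (hcard ▸ card_subgroup_dvd_card _)

end Cfsg.Agent.GraphM12
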