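/-
Descent of degrees to the centraliser of the radical, and the order 660.

Main results (namespace `Cfsg.Agent.GraphM12`): `dvd_of_descent`, `exists_projection`,
`false_of_660`.
-/
import Cfsg.Agent.Lib.GraphM12.Socle
import Cfsg.Agent.Lib.CharApp.ThreeDegrees.Basic
import Cfsg.Agent.Lib.PrimChar.MetaTwo

set_option autoImplicit false
set_option linter.style.haveILetI false

namespace Cfsg.Agent.GraphM12

open Subgroup Cfsg Cfsg.Agent.CharApp

variable {G : Type*} [Group G] [Finite G]

/-- Degrees descend to a normal subgroup with small quotient. -/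
theorem dvd_of_descent (N : Subgroup G) [N.Normal] (hs : Group.IsSolvable (G ⧸ N)) {d c : ℕ}
    (hd : d ∈ charDegrees G) (hc : c ∣ d) (hco : c.Coprime N.index) :
    ∃ e ∈ charDegrees N, c ∣ e := by
  classical
  haveI := hs
  haveI := Fintype.ofFinite N
  obtain ⟨χ, rfl⟩ := hd
  obtain ⟨θ, hθ⟩ := Cfsg.Agent.CharApp.exists_constituent
    (Char.IsCharacter.restrict (Char.IsIrrCharacter.isCharacter χ.2) N)
    (by rw [OneMemClass.coe_one, DegreeSets.apply_one χ.2]
        exact Nat.cast_ne_zero.2 (TwoClassChar.deg_pos χ.2).ne')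
  exact ⟨_, ⟨θ, rfl⟩, hco.dvd_of_dvd_mul_right
    (hc.trans (ThreeDegrees.dvd_mul_index N χ.2 θ.2 hθ))⟩

omit [Finite G] in
/-- The centraliser of `R` above the chief factor, as a central extension of it. -/
theorem exists_projection {R : Subgroup G} [R.Normal] {M : Subgroup (G ⧸ R)} [M.Normal]
    (hle : M ≤ (centralizer (R : Set G)).map (QuotientGroup.mk' R)) :
    ∃ (C : Subgroup G) (_ : C.Normal) (f : C →* M), C ≤ centralizer (R : Set G) ∧
      Function.Surjective f ∧ f.ker ≤ center C ∧ C.index * Nat.card M ∣ Nat.card G := by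
  set C := M.comap (QuotientGroup.mk' R) ⊓ centralizer (R : Set G)
  let f : C →* M := ((QuotientGroup.mk' R).comp C.subtype).codRestrict M fun x => x.2.1
  have hsurj : Function.Surjective f := by
    rintro ⟨m, hm⟩
    obtain ⟨g, hg, rfl⟩ := hle hm
    exact ⟨⟨g, hm, hg⟩, rfl⟩
  have hker : f.ker ≤ center C := fun x hx => by
    have hxR : (x : G) ∈ R := (QuotientGroup.eq_one_iff _).mp (congrArg Subtype.val (MonoidHom.mem_ker.mp hx))
    exact mem_center_iff.mpr fun y => Subtype.ext (mem_centralizer_iff.mp y.2.2 x hxR).symm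
  refine ⟨C, inferInstance, f, inf_le_right, hsurj, hker, ?_⟩
  rw [← C.index_mul_card]
  exact Nat.mul_dvd_mul_left _ (card_dvd_of_surjective f hsurj)

theorem isSolvable_of_dvd_144 {H : Type*} [Group H] [Finite H] (h : Nat.card H ∣ 144) :
    Group.IsSolvable H := by
  by_contra hs
  have hle := Nat.le_of_dvd (by norm_num) h
  obtain ⟨t, ht, htd⟩ := SmallDegreeGraph.exists_order_dvd hs (by omega)
  have := htd.trans h
  simp only [SmallDegreeGraph.orderList, List.mem_cons, List.not_mem_nil, or_false] at ht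
  rcases ht with rfl | rfl | rfl | rfl | rfl | rfl | rfl | rfl | rfl | rfl | rfl <;> norm_num at this

/-- The chief factor does not have order 660. -/
theorem false_of_660 (h : Nat.card G = 95040) {R : Subgroup G} [R.Normal] {M : Subgroup (G ⧸ R)}
    [M.Normal] (hM : Nat.card M = 660)
    (hle : M ≤ (centralizer (R : Set G)).map (QuotientGroup.mk' R)) {d : ℕ}
    (hd : d ∈ charDegrees G) (hdd : 55 ∣ d) : False := by
  obtain ⟨C, hC, f, -, hf, hker, hidx⟩ := exists_projection hle
  haveI := hC
  rw [hM, h] at hidx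
  have hidx' : C.index ∣ 144 := Nat.dvd_of_mul_dvd_mul_right (show 0 < 660 by norm_num)
    (hidx.trans (dvd_of_eq (by norm_num)))
  have hco : Nat.Coprime 55 C.index := Nat.Coprime.coprime_dvd_right hidx' (by norm_num)
  obtain ⟨e, ⟨θ, rfl⟩, he⟩ := dvd_of_descent C
    (isSolvable_of_dvd_144 (C.index_eq_card ▸ hidx')) hd hdd hco
  have h1 := PrimChar.sq_degree_le_index_center θ
  have h2 : (center C).index ≤ 660 := by
    refine (Nat.le_of_dvd ?_ (index_dvd_of_le hker)).trans ?_
    · exact Nat.pos_of_ne_zero index_ne_zero_of_finite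
    · rw [index_ker, MonoidHom.range_eq_top.mpr hf, card_top, hM]
  have h3 := Nat.le_of_dvd (TwoClassChar.deg_pos θ.2) he
  have h4 : 55 ^ 2 ≤ charDegree (θ : C → ℂ) ^ 2 := Nat.pow_le_pow_left h3 2
  omega

end Cfsg.Agent.GraphM12
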