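/-
A chief factor of order 7920.

Main results (namespace `Cfsg.Agent.GraphM12`): `nonempty_mulEquiv_alt_four`,
`exists_product`, `not_dvd_degree`, `nonempty_mulEquiv_prod`.
-/
import Cfsg.Agent.Lib.GraphM12.Socle
import Cfsg.Agent.Lib.Order7920.Unique
import Cfsg.Agent.Lib.Order7920.Degrees
import Cfsg.Agent.Lib.MathieuEleven.Aut
import Cfsg.Agent.Lib.MathieuEleven.Multiplier
import Cfsg.Agent.Lib.CentralExt.Basic
import Cfsg.Agent.Lib.Char.Linear
import Cfsg.Agent.Lib.Blocks.Defect

set_option autoImplicit false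
set_option linter.style.haveILetI false

namespace Cfsg.Agent.GraphM12

open Subgroup Cfsg

/-- A group of order 12 with a degree divisible by 3 is alternating of degree 4. -/
theorem nonempty_mulEquiv_alt_four {R : Type*} [Group R] [Finite R] (hR : Nat.card R = 12)
    (h3 : 3 ∈ degreePrimes R) : Nonempty (R ≃* alternatingGroup (Fin 4)) := by
  classical
  have : Fact (Nat.Prime 3) := ⟨Nat.prime_three⟩
  have hP : ∀ P : Sylow 3 R, Nat.card (P : Subgroup R) = 3 := fun P => by
    rw [SmallOrders.card_sylow_subgroup (e := 1) (m := 4) (by rw [hR]; norm_num) (by norm_num) P, pow_one]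
  obtain ⟨P⟩ := (inferInstance : Nonempty (Sylow 3 R))
  have hd : Nat.card (Sylow 3 R) ∣ 4 := SmallOrders.index_sylow (e := 1) (m := 4)
    (by rw [hR]; norm_num) (by norm_num) P ▸ P.card_dvd_index
  have hmod : Nat.card (Sylow 3 R) % 3 = 1 := card_sylow_modEq_one 3 R
  have hle := Nat.le_of_dvd (by norm_num) hd
  have hne : Nat.card (Sylow 3 R) ≠ 1 := by
    intro h1
    have := (Nat.card_eq_one_iff_unique.mp h1).1
    exact SmallDegreeGraph.not_mem_of_prime_order P (Sylow.normal_of_subsingleton P) (hP P) h3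
  have h4 : Nat.card (Sylow 3 R) = 4 := by omega
  have hN : ∀ Q : Sylow 3 R, normalizer ((Q : Subgroup R) : Set R) = (Q : Subgroup R) := fun Q => by
    refine (eq_of_le_of_card_ge le_normalizer ?_).symm
    have h := SmallOrders.card_normalizer_mul_card_sylow Q
    rw [h4, hR] at h
    rw [hP]
    omega
  let φ := MulAction.toPermHom R (Sylow 3 R)
  have hker : φ.ker = ⊥ := by
    refine eq_bot_iff.mpr fun x hx => ?_
    obtain ⟨Q, hQ⟩ : ∃ Q : Sylow 3 R, Q ≠ P := by
      by_contra! hall
      have : Subsingleton (Sylow 3 R) := ⟨fun A B => (hall A).trans (hall B).symm⟩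
      exact hne Nat.card_unique
    have hall : ∀ Q : Sylow 3 R, x ∈ (Q : Subgroup R) := fun Q => by
      rw [← hN Q]
      exact Sylow.smul_eq_iff_mem_normalizer.mp (Equiv.Perm.ext_iff.mp (MonoidHom.mem_ker.mp hx) Q)
    rw [mem_bot]
    by_contra hx1
    apply hQ
    have key : ∀ S : Sylow 3 R, zpowers x = (S : Subgroup R) := fun S => by
      refine eq_of_le_of_card_ge (zpowers_le.mpr (hall S)) ?_
      rw [hP, Nat.card_zpowers]
      have := orderOf_dvd_natCard _ (hall S)
      rw [hP] at this
      rcases (Nat.dvd_prime Nat.prime_three).mp this with e | e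
      · exact absurd (orderOf_eq_one_iff.mp e) hx1
      · omega
    exact Sylow.ext ((key Q).symm.trans (key P))
  have hinj : Function.Injective φ := (MonoidHom.ker_eq_bot_iff φ).mp hker
  have := Fintype.ofFinite (Sylow 3 R)
  have hX : Fintype.card (Sylow 3 R) = 4 := by rw [← Nat.card_eq_fintype_card, h4]
  have hidx : φ.range.index = 2 := by
    have h := φ.range.card_mul_index
    rw [← Nat.card_congr (MonoidHom.ofInjective hinj).toEquiv, hR, Nat.card_perm, h4] at h
    have : Nat.factorial 4 = 24 := rfl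
    omega
  have e1 := (MonoidHom.ofInjective hinj).trans
    (MulEquiv.subgroupCongr (Equiv.Perm.eq_alternatingGroup_of_index_eq_two hidx))
  exact ⟨e1.trans (Equiv.altCongrHom (Fintype.equivFinOfCardEq hX))⟩

/-- The degrees of `M11` are prime to 3 or to 11. -/
theorem not_dvd_degree {S : Type*} [Group S] [Finite S] [IsSimpleGroup S] (h : Nat.card S = 7920)
    (χ : IrrCharacter S) : ¬ 33 ∣ charDegree (χ : S → ℂ) := by
  have : Fact (Nat.Prime 11) := ⟨by norm_num⟩
  have : Fact (Nat.Prime 5) := ⟨by norm_num⟩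
  obtain ⟨a, ha⟩ := exists_prime_orderOf_dvd_card' (G := S) 11 (by rw [h]; norm_num)
  obtain ⟨x, hx⟩ := exists_prime_orderOf_dvd_card' (G := S) 5 (by rw [h]; norm_num)
  obtain ⟨f, T⟩ := Order7920.exists_table h ha hx
  obtain ⟨i, rfl⟩ := T.bij.2 χ
  rw [T.deg i]
  revert i
  decide +kernel

/-- The derived group maps onto the derived group. -/
theorem map_commutator_of_surjective {A B : Type*} [Group A] [Group B] (f : A →* B)
    (hf : Function.Surjective f) : (commutator A).map f = commutator B := by
  rw [commutator_def, map_commutator, map_top_of_surjective f hf, commutator_def]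

variable {G : Type*} [Group G] [Finite G]

/-- A chief factor `M11` splits off. -/
theorem exists_product (h : Nat.card G = 95040) {R : Subgroup G} [R.Normal] {M : Subgroup (G ⧸ R)}
    [M.Normal] [IsSimpleGroup M] (hMc : ¬ IsMulCommutative M) (hM : Nat.card M = 7920)
    (hC : centralizer (M : Set (G ⧸ R)) = ⊥)
    (hle : M ≤ (centralizer (R : Set G)).map (QuotientGroup.mk' R)) :
    Nat.card R = 12 ∧ Nonempty (G ≃* R × ↥Spor.M11) := by
  classical
  obtain ⟨e⟩ := Order7920.nonempty_mulEquiv_m11 (G := M) hM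
  -- every automorphism of `M` is inner
  have hMtop : M = ⊤ := by
    refine eq_top_iff.mpr fun g _ => ?_
    obtain ⟨s, hs⟩ := MathieuEleven.exists_conj_eq ((e.symm.trans (MulAut.conjNormal g)).trans e)
    set m := e.symm s with hm
    have hmem : (m : G ⧸ R)⁻¹ * g ∈ centralizer (M : Set (G ⧸ R)) := by
      refine mem_centralizer_iff.mpr fun x hx => ?_
      have h1 := DFunLike.congr_fun hs (e ⟨x, hx⟩)
      simp only [MulAut.conj_apply, MulEquiv.trans_apply, MulEquiv.symm_apply_apply] at h1
      have h2 := congrArg e.symm h1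
      simp only [map_mul, map_inv, MulEquiv.symm_apply_apply] at h2
      have h3 : (m : G ⧸ R) * x * (m : G ⧸ R)⁻¹ = g * x * g⁻¹ := by
        have h4 := congrArg Subtype.val h2
        simpa [MulAut.conjNormal_apply, hm] using h4
      calc x * ((m : G ⧸ R)⁻¹ * g)
          = (m : G ⧸ R)⁻¹ * ((m : G ⧸ R) * x * (m : G ⧸ R)⁻¹) * g := by group
        _ = (m : G ⧸ R)⁻¹ * g * x := by rw [h3]; group
    rw [hC, mem_bot, inv_mul_eq_one] at hmem
    exact hmem ▸ m.2
  have hR : Nat.card R = 12 := by
    have h1 := R.card_mul_index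
    rw [h, index_eq_card, ← card_top (G := G ⧸ R), ← hMtop, hM] at h1
    omega
  refine ⟨hR, ?_⟩
  set C := centralizer (R : Set G)
  let q : C →* ↥Spor.M11 := e.toMonoidHom.comp
    (((QuotientGroup.mk' R).comp C.subtype).codRestrict M fun x => hMtop ▸ mem_top _)
  have hq : Function.Surjective q := by
    intro y
    obtain ⟨g, hg, hgy⟩ := hle (e.symm y).2
    refine ⟨⟨g, hg⟩, ?_⟩
    show e _ = y
    rw [← e.eq_symm_apply]
    exact Subtype.ext hgy
  have hqker : q.ker ≤ center C := fun x hx => by
    have h1 : e _ = e 1 := (MonoidHom.mem_ker.mp hx).trans (map_one e).symm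
    have hxR : (x : G) ∈ R := (QuotientGroup.eq_one_iff _).mp (congrArg Subtype.val (e.injective h1))
    exact mem_center_iff.mpr fun y => Subtype.ext (mem_centralizer_iff.mp y.2 x hxR).symm
  -- the derived group
  haveI := MathieuEleven.isSimpleGroup_m11
  have hperf : commutator ↥Spor.M11 = ⊤ := by
    rcases (inferInstance : (commutator ↥Spor.M11).Normal).eq_bot_or_eq_top with hb | ht
    · exfalso
      refine hMc ⟨⟨fun a b => e.injective ?_⟩⟩
      rw [map_mul, map_mul, ← commutatorElement_eq_one_iff_mul_comm, ← mem_bot, ← hb]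
      exact commutator_mem_commutator (mem_top _) (mem_top _)
    · exact ht
  have hmap : (commutator C).map q = ⊤ := by
    rw [commutator_def, map_commutator, map_top_of_surjective q hq, ← commutator_def, hperf]
  have hmc : ∀ g : C, ∃ k ∈ commutator C, k⁻¹ * g ∈ center C := by
    intro g
    obtain ⟨k, hk, hkg⟩ := (hmap.symm ▸ mem_top (q g) : q g ∈ (commutator C).map q)
    exact ⟨k, hk, hqker (by rw [MonoidHom.mem_ker, map_mul, map_inv, hkg, inv_mul_cancel])⟩
  haveI hLperf : Group.IsPerfect (commutator C) := CentralExt.isPerfect_of_mul_center hmc rfl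
  -- a copy in the smallest universe
  let j : commutator C →* Equiv.Perm (Fin (Nat.card (commutator C))) :=
    ((Finite.equivFin (commutator C)).permCongrHom.toMonoidHom).comp
      (MulAction.toPermHom (commutator C) (commutator C))
  have hj : Function.Injective j :=
    (Finite.equivFin (commutator C)).permCongrHom.injective.comp MulAction.toPerm_injective
  let ej : commutator C ≃* j.range := MonoidHom.ofInjective hj
  let σ : j.range →* ↥Spor.M11 := (q.comp (commutator C).subtype).comp ej.symm.toMonoidHom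
  have hσ : Function.Surjective σ := by
    intro y
    obtain ⟨k, hk, hky⟩ := (hmap.symm ▸ mem_top y : y ∈ (commutator C).map q)
    exact ⟨ej ⟨k, hk⟩, by
      show q ((ej.symm (ej ⟨k, hk⟩) : commutator C) : C) = y
      rw [MulEquiv.symm_apply_apply]; exact hky⟩
  have hstem : IsStemExtension σ := by
    refine ⟨hσ, fun x hx => ?_, fun x _ => ?_⟩
    · refine mem_center_iff.mpr fun y => ej.symm.injective (Subtype.ext ?_)
      rw [map_mul, map_mul]
      exact mem_center_iff.mp (hqker (show q ((ej.symm x : commutator C) : C) = 1 from hx)) _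
    · rw [← map_commutator_of_surjective ej.toMonoidHom ej.surjective,
        Group.IsPerfect.commutator_eq_top (G := commutator C)]
      exact ⟨ej.symm x, mem_top _, ej.apply_symm_apply x⟩
  obtain ⟨π, hπ⟩ := MathieuEleven.hasCyclicSchurMultiplier_m11.2 j.range σ hstem
  have hkb : σ.ker = ⊥ := by
    have : Subsingleton σ.ker := hπ.subsingleton
    exact eq_bot_of_subsingleton _
  let eσ : j.range ≃* ↥Spor.M11 :=
    MulEquiv.ofBijective σ ⟨(MonoidHom.ker_eq_bot_iff σ).mp hkb, hσ⟩
  let ι : ↥Spor.M11 →* G :=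
    (C.subtype.comp (commutator C).subtype).comp (eσ.symm.trans ej.symm).toMonoidHom
  have hqι : ∀ y, QuotientGroup.mk' R (ι y) = (e.symm y : G ⧸ R) := by
    intro y
    have h1 : σ (eσ.symm y) = y := eσ.apply_symm_apply y
    have h2 : q (((eσ.symm.trans ej.symm) y : commutator C) : C) = y := h1
    exact congrArg Subtype.val (e.eq_symm_apply.mpr h2)
  have hcomm : ∀ (r : R) (y : ↥Spor.M11), (r : G) * ι y = ι y * r := fun r y =>
    mem_centralizer_iff.mp (((eσ.symm.trans ej.symm) y : commutator C) : C).2 r r.2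
  let Φ : R × ↥Spor.M11 →* G :=
    { toFun := fun p => (p.1 : G) * ι p.2
      map_one' := by simp
      map_mul' := fun p p' => by
        simp only [Prod.fst_mul, Prod.snd_mul, coe_mul, map_mul]
        rw [mul_assoc (p.1 : G), ← mul_assoc (p'.1 : G), hcomm p'.1 p.2]
        group }
  have hinj : Function.Injective Φ := by
    rw [injective_iff_map_eq_one]
    rintro ⟨r, y⟩ hry
    change (r : G) * ι y = 1 at hry
    have h1 := congrArg (QuotientGroup.mk' R) hry
    rw [map_mul, map_one, hqι,
      show QuotientGroup.mk' R (r : G) = 1 from (QuotientGroup.eq_one_iff _).mpr r.2, one_mul] at h1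
    have hy : y = 1 := e.symm.injective (by rw [map_one]; exact Subtype.ext h1)
    subst hy
    rw [map_one, mul_one] at hry
    exact Prod.ext (Subtype.ext hry) rfl
  exact ⟨(MulEquiv.ofBijective Φ ((Nat.bijective_iff_injective_and_card _).mpr
    ⟨hinj, by rw [Nat.card_prod, hR, MathieuEleven.natCard_m11, h]⟩)).symm⟩

/-- The conclusion for a chief factor of order 7920. -/
theorem nonempty_mulEquiv_prod (h : Nat.card G = 95040) {R : Subgroup G} [R.Normal]
    {M : Subgroup (G ⧸ R)} [M.Normal] [IsSimpleGroup M] (hMc : ¬ IsMulCommutative M)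
    (hM : Nat.card M = 7920) (hC : centralizer (M : Set (G ⧸ R)) = ⊥)
    (hle : M ≤ (centralizer (R : Set G)).map (QuotientGroup.mk' R)) {d : ℕ}
    (hd : d ∈ charDegrees G) (hdd : 33 ∣ d) :
    Nonempty (G ≃* alternatingGroup (Fin 4) × ↥Spor.M11) := by
  obtain ⟨hR, ⟨Ψ⟩⟩ := exists_product h hMc hM hC hle
  haveI := MathieuEleven.isSimpleGroup_m11
  obtain ⟨χ, rfl⟩ := hd
  obtain ⟨φ, ψ, hφ, hψ, heq⟩ := (Char.isIrrCharacter_prod_iff _).mp
    (Char.IsIrrCharacter.comp_equiv χ.2 Ψ.symm)
  have hdeg : charDegree (χ : G → ℂ) = charDegree φ * charDegree ψ := by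
    have h1 := congrFun heq 1
    simp only [map_one, Prod.fst_one, Prod.snd_one] at h1
    rw [CharApp.DegreeSets.apply_one χ.2, CharApp.DegreeSets.apply_one hφ,
      CharApp.DegreeSets.apply_one hψ] at h1
    exact_mod_cast h1
  have h3 : 3 ∣ charDegree φ := by
    by_contra h3
    rw [hdeg] at hdd
    have h11 : ¬ 11 ∣ charDegree φ := fun hd' => by
      have h1 := hd'.trans (Blocks.charDegree_dvd_card ⟨φ, hφ⟩)
      rw [hR] at h1
      norm_num at h1
    have hco : Nat.Coprime 33 (charDegree φ) := by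
      rw [show (33 : ℕ) = 3 * 11 from rfl]
      exact Nat.Coprime.mul_left ((Nat.Prime.coprime_iff_not_dvd Nat.prime_three).mpr h3)
        ((Nat.Prime.coprime_iff_not_dvd (by norm_num)).mpr h11)
    exact not_dvd_degree MathieuEleven.natCard_m11 ⟨ψ, hψ⟩ (hco.dvd_of_dvd_mul_left hdd)
  obtain ⟨e4⟩ := nonempty_mulEquiv_alt_four hR ⟨Nat.prime_three, _, ⟨⟨φ, hφ⟩, rfl⟩, h3⟩
  exact ⟨Ψ.trans (MulEquiv.prodCongr e4 (MulEquiv.refl _))⟩

end Cfsg.Agent.GraphM12
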